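import Cfsg.Agent.H546.Sp.Kill
import Cfsg.Agent.H546.Sp.Block
import Cfsg.Agent.H357.Sp.Spec

/-!
# Primes not dividing a normal subgroup: the instances (TEAM SPEC-ALT, task KILL)
-/

set_option autoImplicit false

namespace Cfsg.Agent.H546.Sp

open Cfsg.Agent.H357.Sp Subgroup Equiv

universe u

/-- `kill_gen` with the pair given in another group -/
theorem kill_hom {G : Type u} [Group G] [Finite G] {N : Subgroup G} [N.Normal] {p s a t q : ℕ} (hp : p.Prime)
    (hs : s.Prime) (ht : t.Prime) (hq : q.Prime) (ha : 1 ≤ a) (htp : t ≠ p) (hqt : q ≠ t) (hgood : Good.{u} p s a)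
    (htN : t ∣ Nat.card ↥N) (S : Subgroup (G ⧸ N)) [S.Normal] [IsSimpleGroup S] {T : Type*} [Group T]
    (f : T →* G ⧸ N) (hfi : Function.Injective f) (hfS : ∀ x, f x ∈ S) {E : Subgroup T}
    (hE : IsPGroup p E) (hE1 : E ≠ ⊥) {h : T} (hh : orderOf h = s ^ a) (hn : ∀ x ∈ E, h * x * h⁻¹ ∈ E)
    (hf : ∀ i : ℕ, ¬ s ^ a ∣ i → ∀ x ∈ E, h ^ i * x * (h ^ i)⁻¹ = x → x = 1)
    (hqS : q ∣ Nat.card ↥S) (hno : ∀ g : G, orderOf g ≠ q * t) (hsn : s ≠ t → ∀ g : G, orderOf g ≠ s ^ (a + 1)) :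
    ∃ g : G, orderOf g = s ^ a * t := by
  refine kill_gen (E := E.map f) (h := f h) hp hs ht hq ha htp hqt hgood htN S ?_ (hE.map f) ?_ (hfS h) ?_ ?_ ?_ hqS hno hsn
  · rintro _ ⟨x, -, rfl⟩
    exact hfS x
  · intro h0
    exact hE1 ((map_eq_bot_iff_of_injective _ hfi).1 h0)
  · rw [orderOf_injective f hfi, hh]
  · rintro _ ⟨x, hx, rfl⟩
    exact ⟨h * x * h⁻¹, hn x hx, by rw [map_mul, map_mul, map_inv]⟩
  · rintro i hi _ ⟨x, hx, rfl⟩ hxx
    have : h ^ i * x * (h ^ i)⁻¹ = x := by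
      apply hfi
      rw [map_mul, map_mul, map_inv, map_pow]
      exact hxx
    rw [hf i hi x hx this, map_one]

/-- the alternating group in the top -/
theorem top_alt {m : ℕ} {G : Type u} [Group G] {N : Subgroup G} [N.Normal] (hT : Top m N) :
    ∃ S : Subgroup (G ⧸ N), S.Normal ∧ ∃ f : alternatingGroup (Fin m) →* G ⧸ N, Function.Injective f ∧ S = f.range := by
  rcases hT with ⟨⟨e⟩⟩ | ⟨⟨e⟩⟩
  · refine ⟨⊤, inferInstance, e.symm.toMonoidHom, e.symm.injective, ?_⟩
    exact (MonoidHom.range_eq_top.2 e.symm.surjective).symm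
  · refine ⟨(alternatingGroup (Fin m)).map e.symm.toMonoidHom, ?_, e.symm.toMonoidHom.comp (alternatingGroup (Fin m)).subtype,
      e.symm.injective.comp (alternatingGroup (Fin m)).subtype_injective, ?_⟩
    · exact Subgroup.Normal.map inferInstance _ e.symm.surjective
    · rw [MonoidHom.range_comp, range_subtype]

theorem dvd_card_alt {m q : ℕ} (hq : q.Prime) (hm : 5 ≤ m) (hqm : q ≤ m) : q ∣ Nat.card (alternatingGroup (Fin m)) := by
  have : Nontrivial (Fin m) := Fin.nontrivial_iff_two_le.2 (by omega)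
  have h1 : 2 * Nat.card (alternatingGroup (Fin m)) = Nat.factorial m := by
    rw [two_mul_nat_card_alternatingGroup, Nat.card_perm, Nat.card_eq_fintype_card, Fintype.card_fin]
  by_cases h2 : q = 2
  · subst h2
    have h3 : 2 * 2 ∣ 2 * Nat.card (alternatingGroup (Fin m)) := by
      rw [h1]
      exact (by decide : 2 * 2 ∣ Nat.factorial 5).trans (Nat.factorial_dvd_factorial hm)
    exact Nat.dvd_of_mul_dvd_mul_left (by norm_num) h3
  · have h3 : q ∣ 2 * Nat.card (alternatingGroup (Fin m)) := by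
      rw [h1]; exact (Nat.Prime.dvd_factorial hq).2 hqm
    rcases (Nat.Prime.dvd_mul hq).1 h3 with h4 | h4
    · exact absurd ((Nat.prime_dvd_prime_iff_eq hq Nat.prime_two).1 h4) h2
    · exact h4

variable {ε n m : ℕ} {G : Type} [Group G] [Finite G]

theorem not_dvd_block (h : Spec ε n G) {N : Subgroup G} [N.Normal] (hT : Top m N) {c p s a t q : ℕ} (hp : p.Prime)
    (hs : s.Prime) (ht : t.Prime) (hq : q.Prime) (ha : 1 ≤ a) (htp : t ≠ p) (hqt : q ≠ t) (hgood : Good.{0} p s a)
    (hb : IsBlock c p (s ^ a)) (hcm : c ≤ m) (h5 : 5 ≤ m) (hqm : q ≤ m) (hqn : n < q + t) (hsn : n < s ^ (a + 1))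
    (hst : s ≠ t → n < s ^ a + t) : ¬ t ∣ Nat.card ↥N := by
  intro htN
  obtain ⟨S, hSn, f, hf, hS⟩ := top_alt hT
  have hsimp : IsSimpleGroup (alternatingGroup (Fin m)) :=
    alternatingGroup.isSimpleGroup (by rw [Nat.card_eq_fintype_card, Fintype.card_fin]; exact h5)
  have hSs : IsSimpleGroup S := by
    rw [hS]
    exact (MonoidHom.ofInjective hf).symm.isSimpleGroup
  obtain ⟨i1, -, hi1, -, -⟩ := exists_alt_prod hcm
  obtain ⟨E, g, hE1, hE, -, hg, hn, hfr⟩ := hb
  have hup : ∀ x : G, ∀ k, orderOf x = k → W k ≤ n := by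
    rintro x k rfl
    have := h.up x
    omega
  obtain ⟨x, hx⟩ := kill_hom hp hs ht hq ha htp hqt hgood htN S (f.comp i1) (hf.comp hi1) (fun x => by
      rw [hS]; exact ⟨i1 x, rfl⟩) hE hE1 hg hn hfr (by
      rw [hS, ← Nat.card_congr (MonoidHom.ofInjective hf).toEquiv]
      exact dvd_card_alt hq h5 hqm) (by
      intro x hx
      have h1 := hup x _ hx
      rw [W_mul_of_coprime ((Nat.coprime_primes hq ht).2 hqt), W_prime hq, W_prime ht] at h1
      omega) (by
      intro _ x hx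
      have h1 := hup x _ hx
      rw [W_prime_pow hs (by omega)] at h1
      omega)
  have h1 := hup x _ hx
  by_cases hst' : s = t
  · subst hst'
    rw [← pow_succ, W_prime_pow hs (by omega)] at h1
    omega
  · rw [W_mul_of_coprime (Nat.Coprime.pow_left _ ((Nat.coprime_primes hs ht).2 hst')), W_prime_pow hs ha, W_prime ht] at h1
    have := hst hst'
    omega

theorem isBlock_seven : IsBlock 8 2 (7 ^ 1) := by
  have := isBlock_affine (p := 2) (a := 3) (s := 7) (e := 1) (j := 0) (by norm_num) (by norm_num) (by norm_num)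
    (by norm_num) (by norm_num) (by norm_num)
  simpa using this

theorem isBlock_five : IsBlock 11 11 (5 ^ 1) := by
  have := isBlock_affine (p := 11) (a := 1) (s := 5) (e := 1) (j := 0) (by norm_num) (by norm_num) (by norm_num)
    (by norm_num) (by norm_num) (by norm_num)
  simpa using this

theorem isBlock_sixteen : IsBlock 19 17 (2 ^ 4) := by
  have := isBlock_two' (p := 17) (a := 1) (e := 4) (by norm_num) (by norm_num) (by norm_num) (by norm_num)
  simpa using this

theorem isBlock_eleven : IsBlock 23 23 (11 ^ 1) := by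
  have := isBlock_affine (p := 23) (a := 1) (s := 11) (e := 1) (j := 0) (by norm_num) (by norm_num) (by norm_num)
    (by norm_num) (by norm_num) (by norm_num)
  simpa using this

theorem not_dvd_seven (h : Spec ε n G) {N : Subgroup G} [N.Normal] (hT : Top m N) (hm : 8 ≤ m) (hn : n < 49) {q : ℕ}
    (hq : q.Prime) (hqm : q ≤ m) (hq7 : q ≠ 7) (hqn : n < q + 7) : ¬ 7 ∣ Nat.card ↥N :=
  not_dvd_block h hT (c := 8) (p := 2) (s := 7) (a := 1) Nat.prime_two (by norm_num) (by norm_num) hq le_rfl (by norm_num)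
    hq7 good_two_seven isBlock_seven hm (by omega) hqm hqn (by norm_num; exact hn) (fun h => absurd rfl h)

theorem not_dvd_of_seven (h : Spec ε n G) {N : Subgroup G} [N.Normal] (hT : Top m N) {t : ℕ} (ht : t.Prime) (h2 : t ≠ 2)
    (h7 : t ≠ 7) (hm : 8 ≤ m) (hn : n < 49) (hnt : n < 7 + t) : ¬ t ∣ Nat.card ↥N :=
  not_dvd_block h hT (c := 8) (p := 2) (s := 7) (a := 1) (q := 7) Nat.prime_two (by norm_num) ht (by norm_num) le_rfl h2
    (Ne.symm h7) good_two_seven isBlock_seven hm (by omega) (by omega) hnt (by norm_num; exact hn)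
    (fun _ => by rw [pow_one]; exact hnt)

theorem not_dvd_five (h : Spec ε n G) {N : Subgroup G} [N.Normal] (hT : Top m N) (hm : 11 ≤ m) (hn : n < 25) {q : ℕ}
    (hq : q.Prime) (hqm : q ≤ m) (hq5 : q ≠ 5) (hqn : n < q + 5) : ¬ 5 ∣ Nat.card ↥N :=
  not_dvd_block h hT (c := 11) (p := 11) (s := 5) (a := 1) (by norm_num) (by norm_num) (by norm_num) hq le_rfl (by norm_num)
    hq5 (good_of_dvd (by norm_num) (by norm_num) le_rfl (by norm_num)) isBlock_five hm (by omega) hqm hqn
    (by norm_num; exact hn) (fun h => absurd rfl h)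

theorem not_dvd_sixteen (h : Spec ε n G) {N : Subgroup G} [N.Normal] (hT : Top m N) {t : ℕ} (ht : t.Prime) (h17 : t ≠ 17)
    (hm : 19 ≤ m) (hn : n < 32) (hnt : n < 16 + t) : ¬ t ∣ Nat.card ↥N :=
  not_dvd_block h hT (c := 19) (p := 17) (s := 2) (a := 4) (q := 17) (by norm_num) (by norm_num) ht (by norm_num)
    (by norm_num) h17 (Ne.symm h17) (good_of_dvd (by norm_num) (by norm_num) (by norm_num) (by norm_num)) isBlock_sixteen hm
    (by omega) (by omega) (by omega) (by norm_num; exact hn) (fun _ => by norm_num; exact hnt)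

theorem not_dvd_eleven (h : Spec ε n G) {N : Subgroup G} [N.Normal] (hT : Top m N) (hm : 23 ≤ m) (hn : n < 121) {q : ℕ}
    (hq : q.Prime) (hqm : q ≤ m) (hq11 : q ≠ 11) (hqn : n < q + 11) : ¬ 11 ∣ Nat.card ↥N :=
  not_dvd_block h hT (c := 23) (p := 23) (s := 11) (a := 1) (by norm_num) (by norm_num) (by norm_num) hq le_rfl
    (by norm_num) hq11 (good_of_dvd (by norm_num) (by norm_num) le_rfl (by norm_num)) isBlock_eleven hm (by omega) hqm hqn
    (by norm_num; exact hn) (fun h => absurd rfl h)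

end Cfsg.Agent.H546.Sp
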